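import Cfsg.Agent.Lib.Golay.Mathieu

/-!
Further facts on the Golay code and `M24`: self-duality, some counts, the pointwise stabiliser of
an octad, hexads of a dodecad.
-/

set_option autoImplicit false

namespace Cfsg.Lib.Golay

open Cfsg.Lib.PC Equiv
open scoped Pointwise symmDiff

/-- code words that are systematic on the points with indices `12, ..., 23`, packed -/
def cobasisP : ℕ := 248756156429229880086003834038450292976644127430141182300861190516141820408007927796895

/-- a set meeting every code word evenly is a code word -/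
theorem mem_cwords_of_even_inter {s : Finset GolayPt} (h : ∀ c ∈ cwords, Even (c ∩ s).card) :
    s ∈ cwords := by
  have h1 : allLt 12 (fun j => isCw (app 24 cobasisP j) &&
      Nat.beq (app 24 cobasisP j &&& 16773120) (2 ^ (12 + j))) = true := by decide +kernel
  set t := s ∆ fs (cw (mask s)) with ht
  have h2 : ∀ c ∈ cwords, Even (c ∩ t).card := by
    intro c hc
    have e := card_symmDiff_add (c ∩ s) (c ∩ fs (cw (mask s)))
    have e2 : c ∩ t = (c ∩ s) ∆ (c ∩ fs (cw (mask s))) := by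
      ext x; simp only [ht, Finset.mem_inter, Finset.mem_symmDiff]; tauto
    have e3 := h c hc
    have e4 := even_card_inter hc (fs_cw_mem (mask s))
    rw [e2]
    rw [Nat.even_iff] at *
    omega
  have h3 : ∀ x ∈ t, 12 ≤ idx x := by
    intro x hx
    by_contra hlt
    have e : (cw (mask s)).testBit (idx x) = (mask s).testBit (idx x) := by
      have := congrArg (fun m => m.testBit (idx x)) (cw_mod_eq (Nat.mod_lt (mask s)
        (show 0 < 4096 by norm_num)))
      simp only [cw_mod] at this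
      rw [show (4096 : ℕ) = 2 ^ 12 from rfl, Nat.testBit_mod_two_pow, Nat.testBit_mod_two_pow] at this
      simpa [not_le.mp hlt] using this
    rw [ht, Finset.mem_symmDiff, mem_fs, e, ← mem_fs, fs_mask] at hx
    tauto
  have h4 : t = ∅ := by
    rw [Finset.eq_empty_iff_forall_notMem]
    intro x hx
    obtain ⟨j, hj⟩ := Nat.exists_eq_add_of_le (h3 x hx)
    have hj2 : j < 12 := by have := idx_lt x; omega
    have e := (allLt_iff _ _).mp h1 j hj2
    rw [Bool.and_eq_true] at e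
    have e1 := h2 _ (fs_mem_of_isCw e.1)
    have e2 : fs (app 24 cobasisP j) ∩ fs 16773120 = {x} := by
      rw [← fs_and, Nat.eq_of_beq_eq_true e.2, ← hj, fs_two_pow (idx_lt x), pt_idx]
    have e3 : ∀ y : GolayPt, 12 ≤ idx y → y ∈ fs 16773120 := by
      simp only [mem_fs]; decide +kernel
    have e4 : fs (app 24 cobasisP j) ∩ t = {x} := by
      ext y
      rw [Finset.mem_inter]
      constructor
      · intro hy; rw [← e2]; exact Finset.mem_inter.mpr ⟨hy.1, e3 y (h3 y hy.2)⟩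
      · intro hy
        have hy' := hy
        rw [← e2] at hy'
        exact ⟨(Finset.mem_inter.mp hy').1, Finset.mem_singleton.mp hy ▸ hx⟩
    rw [e4] at e1
    simp at e1
  rw [ht, ← Finset.bot_eq_empty, symmDiff_eq_bot] at h4
  rw [h4]; exact fs_cw_mem _

/-- the Golay code is self-dual -/
theorem mem_golay_of_dot_eq_zero {w : GolayPt → ZMod 2}
    (h : ∀ c ∈ golayCode, ∑ i, c i * w i = 0) : w ∈ golayCode := by
  rw [← support_mem_cwords]
  apply mem_cwords_of_even_inter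
  rintro _ ⟨c, hc, rfl⟩
  rw [← ZMod.natCast_eq_zero_iff_even, ← dot_eq_card]
  exact h c hc

theorem ncard_weight_sixteen : {s | s ∈ cwords ∧ s.card = 16}.ncard = 759 :=
  (ncard_cwords (fun s => s.card = 16) (fun m => Nat.beq (pop 24 m) 16)
    (fun n _ => by rw [card_fs, Nat.beq_eq])).trans (by decide +kernel)

/-- the number of octads meeting the set `fs X` in `k` points -/
theorem ncard_octads_inter (X k : ℕ) : {o | o ∈ octads ∧ (o ∩ fs X).card = k}.ncard =
    cntTree 12 fun n => force (cw n) fun m =>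
      Nat.beq (pop 24 m) 8 && Nat.beq (pop 24 (Nat.land m X)) k := by
  rw [← ncard_cwords (fun o => o.card = 8 ∧ (o ∩ fs X).card = k)]
  · simp only [mem_octads, and_assoc]
  · intro n _
    rw [← fs_and, card_fs, card_fs, Bool.and_eq_true, Nat.beq_eq, Nat.beq_eq]; rfl

theorem ncard_octads_inter_smul {g : Perm GolayPt} (hg : g ∈ M24) (d : Finset GolayPt) (k : ℕ) :
    {o | o ∈ octads ∧ (o ∩ g • d).card = k}.ncard = {o | o ∈ octads ∧ (o ∩ d).card = k}.ncard := by
  rw [← Set.ncard_smul_set g {o | o ∈ octads ∧ (o ∩ d).card = k}]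
  congr 1
  ext o
  rw [Set.mem_smul_set_iff_inv_smul_mem, Set.mem_ofPred_eq, Set.mem_ofPred_eq,
    ← card_perm_smul g (g⁻¹ • o ∩ d), smul_inter_perm, smul_inv_smul]
  refine and_congr ⟨smul_mem_octads (M24.inv_mem hg), fun h => ?_⟩ Iff.rfl
  simpa using smul_mem_octads hg h

theorem ncard_octads_superset {s : Finset GolayPt} (X N : ℕ) (hs : s.card ≤ 5)
    (hX : pop 24 X = s.card)
    (h : (cntTree 12 fun n => force (cw n) fun m =>
      Nat.beq (pop 24 m) 8 && Nat.beq (pop 24 (Nat.land m X)) (pop 24 X)) = N) :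
    {o | o ∈ octads ∧ s ⊆ o}.ncard = N := by
  obtain ⟨g, hg, e⟩ := M24_set_trans (s := fs X) (t := s) (by rw [card_fs, hX]; exact hs)
    (by rw [card_fs, hX])
  rw [← h, ← ncard_octads_inter, ← ncard_octads_inter_smul hg, e, hX]
  congr 1
  ext o
  simp only [Set.mem_ofPred_eq]
  refine and_congr Iff.rfl ⟨fun h => by rw [Finset.inter_eq_right.mpr h], fun h => ?_⟩
  exact Finset.inter_eq_right.mp (Finset.eq_of_subset_of_card_le Finset.inter_subset_right h.ge)

theorem ncard_octads_one {s : Finset GolayPt} (hs : s.card = 1) :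
    {o | o ∈ octads ∧ s ⊆ o}.ncard = 253 :=
  ncard_octads_superset 1 _ (by omega) (by rw [hs]; decide +kernel) (by decide +kernel)

theorem ncard_octads_two {s : Finset GolayPt} (hs : s.card = 2) :
    {o | o ∈ octads ∧ s ⊆ o}.ncard = 77 :=
  ncard_octads_superset 3 _ (by omega) (by rw [hs]; decide +kernel) (by decide +kernel)

theorem ncard_octads_three {s : Finset GolayPt} (hs : s.card = 3) :
    {o | o ∈ octads ∧ s ⊆ o}.ncard = 21 :=
  ncard_octads_superset 7 _ (by omega) (by rw [hs]; decide +kernel) (by decide +kernel)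

theorem ncard_octads_four {s : Finset GolayPt} (hs : s.card = 4) :
    {o | o ∈ octads ∧ s ⊆ o}.ncard = 5 :=
  ncard_octads_superset 15 _ (by omega) (by rw [hs]; decide +kernel) (by decide +kernel)

theorem ncard_octads_mem (p : GolayPt) : {o | o ∈ octads ∧ p ∈ o}.ncard = 253 := by
  simpa using ncard_octads_one (Finset.card_singleton p)

theorem ncard_octads_mem_mem {p q : GolayPt} (h : p ≠ q) :
    {o | o ∈ octads ∧ p ∈ o ∧ q ∈ o}.ncard = 77 := by
  simpa [Finset.insert_subset_iff] using ncard_octads_two (Finset.card_pair h)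

theorem ncard_octads_inter_dodecad {d : Finset GolayPt} (hd : d ∈ dodecads) :
    {o | o ∈ octads ∧ (o ∩ d).card = 6}.ncard = 132 ∧
    {o | o ∈ octads ∧ (o ∩ d).card = 2}.ncard = 132 ∧
    {o | o ∈ octads ∧ (o ∩ d).card = 4}.ncard = 495 := by
  obtain ⟨g, hg, rfl⟩ := M24_dodecad_trans' hd
  simp only [ncard_octads_inter_smul hg, ncard_octads_inter]
  refine ⟨?_, ?_, ?_⟩ <;> decide +kernel

theorem octad0_mem : fs 8536111 ∈ octads :=
  ⟨fs_mem_of_isCw (by decide +kernel), by rw [card_fs]; decide +kernel⟩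

theorem octFix_spec {p : ℕ} (hp : p ∈ octFix) :
    ∃ g ∈ stabG [] 8536111, R p g ∧ g * g = 1 := by
  have h := (allL_iff _ _).mp octFix_ok p hp
  simp only [Bool.and_eq_true] at h
  obtain ⟨g, hg, hr⟩ := I_stabG (I_M24 h.1) h.2.1
  exact ⟨g, hg, hr, (hr.comp hr).unique (Nat.eq_of_beq_eq_true h.2.2 ▸ PC.Rep.one le32)⟩

theorem octFix_trans {x : GolayPt} (hx : x ∉ fs 8536111) :
    ∃ g ∈ stabG [] 8536111, g (pt 4) = x ∧ g * g = 1 := by
  have h := (allLt_iff _ _).mp octFix_cover _ (idx_lt x)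
  rw [tb_eq, Bool.or_eq_true, ← mem_fs] at h
  have h := h.resolve_left hx
  have : ∃ p ∈ octFix, app 5 p 4 = idx x := by
    by_contra hc
    push Not at hc
    rw [(allL_iff _ _).mpr] at h
    · simp at h
    · intro p hp
      cases hb : Nat.beq (app 5 p 4) (idx x)
      · rfl
      · exact absurd (Nat.eq_of_beq_eq_true hb) (hc p hp)
  obtain ⟨p, hp, e⟩ := this
  obtain ⟨g, hg, hr, h2⟩ := octFix_spec hp
  exact ⟨g, hg, by rw [hr.apply_pt (by norm_num), e, pt_idx], h2⟩

theorem pt4_notMem : pt 4 ∉ fs 8536111 := by rw [mem_fs]; decide +kernel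

theorem stabG_octad0_maps {g : Perm GolayPt} (hg : g ∈ stabG [] 8536111) {x : GolayPt}
    (hx : x ∉ fs 8536111) : g x ∉ fs 8536111 := by
  rwa [mem_fs, hg.2.2.inv, ← mem_fs]

theorem mem_stabG_8536127 {g : Perm GolayPt} :
    g ∈ (⊥ : Subgroup (Perm GolayPt)) ↔ g ∈ stabG [] 8536111 ∧ g (pt 4) = pt 4 := by
  rw [← stabG_8536127]
  exact mem_stabG_or (F := 8536111) (a := 4) (by norm_num)

theorem card_stabG_octad0 : Nat.card (stabG [] 8536111) = 16 := by
  rw [card_eq_of_orbit _ ⊥ (pt 4) (fs 8536111)ᶜ (fun _ => mem_stabG_8536127)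
    (fun g hg => Finset.mem_compl.mpr (stabG_octad0_maps hg pt4_notMem))
    (fun x hx => by
      obtain ⟨g, hg, e, -⟩ := octFix_trans (Finset.mem_compl.mp hx)
      exact ⟨g, hg, e⟩), Finset.card_compl, octad0_mem.2, card_pt]
  simp

theorem sq_stabG_octad0 {g : Perm GolayPt} (hg : g ∈ stabG [] 8536111) : g * g = 1 := by
  obtain ⟨h, hh, e, h2⟩ := octFix_trans (stabG_octad0_maps hg pt4_notMem)
  have : h⁻¹ * g ∈ (⊥ : Subgroup (Perm GolayPt)) := by
    rw [mem_stabG_8536127]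
    exact ⟨Subgroup.mul_mem _ (Subgroup.inv_mem _ hh) hg, by
      rw [Perm.mul_apply, Perm.inv_eq_iff_eq, e]⟩
  rw [Subgroup.mem_bot, inv_mul_eq_one] at this
  rwa [← this]

theorem conj_mem_stabG_octad0 {g : Perm GolayPt} (hg : g ∈ M24) {x : Perm GolayPt} :
    g⁻¹ * x * g ∈ stabG [] 8536111 ↔ x ∈ M24 ∧ ∀ y ∈ g • fs 8536111, x y = y := by
  rw [mem_stabG, M24.mul_mem_cancel_right hg, M24.mul_mem_cancel_left (M24.inv_mem hg)]
  refine and_congr Iff.rfl ?_
  simp only [List.not_mem_nil, false_imp_iff, implies_true, true_and, FixAll, conj_fix_iff]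
  constructor
  · intro h y hy
    obtain ⟨z, hz, rfl⟩ := Finset.mem_smul_finset.mp hy
    exact h z (mem_fs.mp hz)
  · intro h y hy
    exact h _ ((apply_mem_perm_smul g _ y).mpr (mem_fs.mpr hy))

/-- the pointwise stabiliser of an octad is transitive on the sixteen other points -/
theorem octad_fix_trans {o : Finset GolayPt} (ho : o ∈ octads) {p q : GolayPt} (hp : p ∉ o)
    (hq : q ∉ o) : ∃ g ∈ M24, (∀ y ∈ o, g y = y) ∧ g p = q := by
  obtain ⟨g, hg, rfl⟩ := M24_octad_trans octad0_mem ho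
  rw [mem_perm_smul_iff] at hp hq
  obtain ⟨a, ha, ea, -⟩ := octFix_trans hp
  obtain ⟨b, hb, eb, -⟩ := octFix_trans hq
  have h : g⁻¹ * (g * (b * a⁻¹) * g⁻¹) * g ∈ stabG [] 8536111 := by
    simpa [mul_assoc] using Subgroup.mul_mem _ hb (Subgroup.inv_mem _ ha)
  rw [conj_mem_stabG_octad0 hg] at h
  refine ⟨_, h.1, h.2, ?_⟩
  simp only [Perm.mul_apply]
  rw [← ea, ← Perm.mul_apply a⁻¹, inv_mul_cancel, Perm.one_apply, eb]; simp

theorem octad_fix_card {o : Finset GolayPt} (ho : o ∈ octads) :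
    Nat.card ↥(M24 ⊓ fixingSubgroup (Perm GolayPt) (o : Set GolayPt)) = 16 := by
  obtain ⟨g, hg, rfl⟩ := M24_octad_trans octad0_mem ho
  obtain ⟨e⟩ := nonempty_equiv_of_conj
    ((M24 ⊓ fixingSubgroup (Perm GolayPt) ((g • fs 8536111 : Finset _) : Set GolayPt)).subgroupOf M24)
    _ (stabG_le_M24 [] 8536111) hg fun x => by
      rw [conj_mem_stabG_octad0 hg, Subgroup.mem_subgroupOf, Subgroup.mem_inf,
        mem_fixingSubgroup_iff]; rfl
  rw [← card_stabG_octad0, ← Nat.card_congr e.toEquiv]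
  exact Nat.card_congr (Subgroup.subgroupOfEquivOfLe inf_le_left).toEquiv.symm

theorem octad_fix_sq {o : Finset GolayPt} (ho : o ∈ octads) {x : Perm GolayPt} (hx : x ∈ M24)
    (h : ∀ y ∈ o, x y = y) : x * x = 1 := by
  obtain ⟨g, hg, rfl⟩ := M24_octad_trans octad0_mem ho
  have := sq_stabG_octad0 ((conj_mem_stabG_octad0 hg).mpr ⟨hx, h⟩)
  have e : x * x = g * (g⁻¹ * x * g * (g⁻¹ * x * g)) * g⁻¹ := by group
  rw [e, this]; group

/-- an element of `M24` stabilising a dodecad and fixing five of its points is trivial -/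
theorem eq_one_of_fix_five {d : Finset GolayPt} (hd : d ∈ dodecads) (x : Fin 5 → GolayPt)
    (hx : Function.Injective x) (hx' : ∀ i, x i ∈ d) {g : Perm GolayPt} (hg : g ∈ M24)
    (hgd : g • d = d) (h : ∀ i, g (x i) = x i) : g = 1 := by
  obtain ⟨k, hk, rfl⟩ := M24_dodecad_trans' hd
  have h5 : ∀ i : Fin 5, pt i ∈ fs 340831 := by simp only [mem_fs]; decide +kernel
  obtain ⟨t, ht, e⟩ := M12_tuple_trans le_rfl (fun i => pt i) (fun i => k⁻¹ (x i))
    (by decide +kernel) (k⁻¹.injective.comp hx) h5 (fun i => (mem_perm_smul_iff _ _ _).mp (hx' i))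
  have h1 : t⁻¹ * (k⁻¹ * g * k) * t ∈ stabG [340831] 31 := by
    have h0 : k⁻¹ * g * k ∈ stabG [340831] 0 := by
      rw [mem_stabG_dodecad, conj_smul_iff]
      exact ⟨conj_mem_M24 hk ⟨g, hg⟩, hgd⟩
    have h2 := Subgroup.mul_mem _ (Subgroup.mul_mem _ (Subgroup.inv_mem _ ht) h0) ht
    refine ⟨h2.1, h2.2.1, fun y hy => ?_⟩
    have : ∀ y : GolayPt, (31 : ℕ).testBit (idx y) = true → ∃ i : Fin 5, y = pt i := by
      decide +kernel
    obtain ⟨i, rfl⟩ := this y hy
    rw [conj_fix_iff, e i, conj_fix_iff]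
    simpa using h i
  rw [stabG_dodecad_31, Subgroup.mem_bot] at h1
  have e2 : g = k * t * (t⁻¹ * (k⁻¹ * g * k) * t) * t⁻¹ * k⁻¹ := by group
  rw [e2, h1]; group

theorem dodecad_tuple_trans {d : Finset GolayPt} (hd : d ∈ dodecads) {n : ℕ} (hn : n ≤ 5)
    (x y : Fin n → GolayPt) (hx : Function.Injective x) (hy : Function.Injective y)
    (hx' : ∀ i, x i ∈ d) (hy' : ∀ i, y i ∈ d) : ∃ g ∈ M24, g • d = d ∧ ∀ i, g (x i) = y i := by
  obtain ⟨k, hk, rfl⟩ := M24_dodecad_trans' hd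
  obtain ⟨t, ht, e⟩ := M12_tuple_trans hn (fun i => k⁻¹ (x i)) (fun i => k⁻¹ (y i))
    (k⁻¹.injective.comp hx) (k⁻¹.injective.comp hy)
    (fun i => (mem_perm_smul_iff _ _ _).mp (hx' i)) (fun i => (mem_perm_smul_iff _ _ _).mp (hy' i))
  rw [mem_stabG_dodecad] at ht
  refine ⟨k * t * k⁻¹, M24.mul_mem (M24.mul_mem hk ht.1) (M24.inv_mem hk), ?_, fun i => ?_⟩
  · rw [mul_smul, inv_smul_smul, mul_smul, ht.2]
  · rw [Perm.mul_apply, Perm.mul_apply, e i]; simp

theorem flag_compl_trans {d : Finset GolayPt} (hd : d ∈ dodecads) {p : GolayPt} (hp : p ∈ d)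
    (x y : Fin 3 → GolayPt) (hx : Function.Injective x) (hy : Function.Injective y)
    (hx' : ∀ i, x i ∉ d) (hy' : ∀ i, y i ∉ d) :
    ∃ g ∈ M24, g • d = d ∧ g p = p ∧ ∀ i, g (x i) = y i := by
  obtain ⟨k, hk, rfl, rfl⟩ := M24_flag_trans hd hp
  have hc : ∀ z : GolayPt, z ∉ k • fs 340831 → k⁻¹ z ∈ fs 16436384 ∧ k⁻¹ z ∉ fs 1 := by
    intro z hz
    rw [mem_perm_smul_iff] at hz
    generalize k⁻¹ z = w at hz
    revert w
    simp only [mem_fs]
    decide +kernel
  obtain ⟨t, ht, e⟩ := tuple_trans (X := 16436384) (Or.inr (by simp)) trans11c trans11c_gens 1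
    trans11c_ok (k := 3) rfl (fun i => k⁻¹ (x i)) (fun i => k⁻¹ (y i))
    (k⁻¹.injective.comp hx) (k⁻¹.injective.comp hy) (fun i => hc _ (hx' i)) (fun i => hc _ (hy' i))
  refine ⟨k * t * k⁻¹, M24.mul_mem (M24.mul_mem hk ht.1) (M24.inv_mem hk), ?_, ?_, fun i => ?_⟩
  · rw [mul_smul, inv_smul_smul, mul_smul, inv_iff_smul.mp (ht.2.1 340831 (by simp))]
  · have := ht.2.2 (some 0) (by decide +kernel)
    simp [this]
  · rw [Perm.mul_apply, Perm.mul_apply, e i]; simp

end Cfsg.Lib.Golay
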