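import Cfsg.Agent.Lib.Golay.Mathieu
import Cfsg.Agent.Lib.Golay.PCGroup

/-!
An explicit Sylow 2-subgroup of `M24` with a polycyclic generating sequence through the
extraspecial subgroup of order 128, and computations modulo its centre.
-/

set_option autoImplicit false

namespace Cfsg.Lib.Golay

open Cfsg.Lib.PC Equiv

/-- codes of the polycyclic generators -/
def syl24 : List (ℕ × ℕ) :=
  [(106824428380476151046080464687324704, 2),
   (734312727911735380586804810015147072, 2),
   (720981692062171673584743151055243296, 2),
   (95515716147709345748879028716527141, 2),
   (236996496736617905827622674440945762, 2),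
   (594097469710726884127915119936080897, 2),
   (979121071158219704299181131031480352, 2),
   (963721886883755259286232606933354528, 2),
   (965128854020860192151391391390468128, 2),
   (967812279691448225500382947153381408, 2)]

def syl24cert : List (ℕ × List ℕ) :=
  [(0, [1, 3, 4, 12, 20, 32, 352, 384, 256]),
   (0, [1, 2, 8, 4, 16, 160, 80, 128]),
   (0, [7, 2, 4, 72, 16, 112, 64]),
   (0, [1, 2, 4, 40, 16, 32]),
   (0, [1, 18, 4, 8, 16]),
   (0, [9, 2, 12, 8]),
   (0, [1, 2, 4]),
   (0, [1, 2]),
   (0, [1]),
   (0, [])]

/-- code of the central involution -/
def zc24 : ℕ := 967812279691448225500382947153381408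

/-- the codes commute modulo the central involution -/
def cS (a b : ℕ) : Bool := force (comp 5 24 a b) fun x => force (comp 5 24 b a) fun y =>
  Nat.beq x y || Nat.beq x (comp 5 24 y zc24)

/-- `g` and `h` commute modulo `z` -/
def CS (z g h : Perm GolayPt) : Prop := g * h = h * g ∨ g * h = h * g * z

theorem cS_iff {a b : ℕ} {z g h : Perm GolayPt} (hz : R zc24 z) (hg : R a g) (hh : R b h) :
    cS a b = true ↔ CS z g h := by
  unfold cS CS
  rw [force_eq, force_eq, Bool.or_eq_true, (hg.ncomp hh).eq_iff (hh.ncomp hg),
    (hg.ncomp hh).eq_iff ((hh.comp hg).ncomp hz)]

/-- pairs of generators witnessing large conjugacy classes modulo the centre -/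
def trip24 : List (ℕ × ℕ) :=
  [(106824428380476151046080464687324704, 720981692062171673584743151055243296),
   (236996496736617905827622674440945762, 965128854020860192151391391390468128),
   (106824428380476151046080464687324704, 734312727911735380586804810015147072),
   (734312727911735380586804810015147072, 720981692062171673584743151055243296),
   (106824428380476151046080464687324704, 95515716147709345748879028716527141),
   (720981692062171673584743151055243296, 236996496736617905827622674440945762)]

/-- the elements whose class modulo the centre has at most two elements -/
def small24 : List ℕ :=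
  [714491598279222785337596717859603523,
   70965123297951451600573189868144366,
   112503062373825312367770132994809381,
   984818244535754528103549039458486304,
   111236747499905474406231262244593189,
   729890584490307831774068739534750787,
   970499966350631336865513127433832480,
   963721886883755259286232606933354528,
   95515716147709345748879028716527141,
   65283161722934341320190217129477870,
   983548720921252936276249910206105632,
   106821298873899070681916954092461605,
   723282625209952653455342073912755267,
   981818691054096003685363657089320992,
   735587559802120952862548468252542019,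
   734318709634027620545279344385197123,
   979121071158219704299181131031480352,
   721269757000026622558066059189945411,
   718582466469944612485300561041687619,
   732588243999094229886711587426796611,
   53976905564390133365199993489770222,
   972512676110088067912772961567868960,
   69698134991677130617082020854154990,
   967812279691448225500382947153381408]

theorem syl24_M24 : allL (syl24.map Prod.fst) isM24 = true := by decide +kernel
theorem syl24_pc : checkPC 5 24 syl24 syl24cert = true := by decide +kernel
theorem syl24_free : checkFree 5 24 syl24 = true := by decide +kernel
theorem syl24_free3 : checkFree 5 24 (syl24.drop 3) = true := by decide +kernel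
theorem syl24_center : allNF 5 24 (fun c => Bool.not (allL (syl24.map Prod.fst) fun g =>
    Nat.beq (comp 5 24 g c) (comp 5 24 c g)) || (Nat.beq c (idc 5 24) || Nat.beq c zc24))
    syl24 (idc 5 24) = true := by decide +kernel
theorem syl24_small : allNF 5 24 (fun c => Bool.not (allL trip24 fun t =>
    cS c t.1 || (cS c t.2 || cS c (comp 5 24 t.1 t.2))) || subL [c] small24)
    syl24 (idc 5 24) = true := by decide +kernel
theorem small24_count : allL small24 (fun x => Nat.ble (small24.filter fun y =>
    allL (syl24.map Prod.fst) (fun g => cS y g) ||
      allL (syl24.map Prod.fst) fun g => cS x g == cS y g).length 16) = true := by decide +kernel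
theorem syl24_Q : allNF 5 24 (fun c => (Nat.beq (comp 5 24 c c) (idc 5 24) ||
    Nat.beq (comp 5 24 c c) zc24) && allL ((syl24.drop 3).map Prod.fst) fun g => cS c g)
    (syl24.drop 3) (idc 5 24) = true := by decide +kernel
theorem syl24_cnt1 : allLt 8 (fun e => Nat.beq e 0 || force (evc 5 24 (syl24.take 3) e) fun r =>
    Nat.ble (cntNF 5 24 (fun c => cS c r) (syl24.drop 3) (idc 5 24)) 32) = true := by
  decide +kernel
theorem syl24_cnt2 : allLt 8 (fun e => allLt e fun e' => Nat.beq e' 0 ||
    force (evc 5 24 (syl24.take 3) e) fun r => force (evc 5 24 (syl24.take 3) e') fun r' =>
    Nat.ble (cntNF 5 24 (fun c => cS c r && cS c r') (syl24.drop 3) (idc 5 24)) 16) = true := by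
  decide +kernel
theorem syl24_cnt3 : cntNF 5 24 (fun c => cS c (evc 5 24 (syl24.take 3) 1) &&
    (cS c (evc 5 24 (syl24.take 3) 2) && cS c (evc 5 24 (syl24.take 3) 4)))
    (syl24.drop 3) (idc 5 24) = 8 := by
  decide +kernel

end Cfsg.Lib.Golay
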