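import Cfsg.Agent.Lib.Golay.Chain

/-!
The weight-8 words of a doubly even binary code of length 24, dimension 12 and without words of
weight 4 form a Steiner system; reduction of the uniqueness of the code to that of the system.
-/

set_option autoImplicit false

namespace Cfsg.Lib.Golay

open Cfsg.Lib.PC Equiv
open scoped Pointwise symmDiff

theorem card_symmDiff_add' {α : Type*} [DecidableEq α] (s t : Finset α) :
    (s ∆ t).card + 2 * (s ∩ t).card = s.card + t.card := by
  have h1 : (s ∆ t).card = (s \ t).card + (t \ s).card := by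
    rw [symmDiff_def, Finset.sup_eq_union, Finset.card_union_of_disjoint disjoint_sdiff_sdiff]
  have h2 := Finset.card_sdiff_add_card_inter s t
  have h3 := Finset.card_sdiff_add_card_inter t s
  rw [Finset.inter_comm t s] at h3
  omega

theorem steiner_of_family {α : Type*} [Fintype α] [DecidableEq α] (hα : Fintype.card α = 24)
    (z : α) (D : Finset (Finset α)) (hcard : D.card = 4096)
    (hadd : ∀ s ∈ D, ∀ t ∈ D, s ∆ t ∈ D) (h4 : ∀ s ∈ D, 4 ∣ s.card) (hno4 : ∀ s ∈ D, s.card ≠ 4) :
    IsSteinerSystem 5 8 {s | s ∈ D ∧ s.card = 8} := by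
  refine ⟨fun b hb => hb.2, fun S hS => ?_⟩
  have huniq : ∀ s ∈ D, ∀ t ∈ D, (s ∆ t).card < 8 → s = t := by
    intro s hs t ht h
    have h1 := h4 _ (hadd s hs t ht)
    have h2 := hno4 _ (hadd s hs t ht)
    have : (s ∆ t).card = 0 := by omega
    rwa [Finset.card_eq_zero, ← Finset.bot_eq_empty, symmDiff_eq_bot] at this
  let A : Finset (Finset α) :=
    Finset.powersetCard 1 Finset.univ ∪ Finset.powersetCard 3 Finset.univ
  have hA : ∀ T, T ∈ A ↔ T.card = 1 ∨ T.card = 3 := by
    intro T; simp [A, Finset.mem_powersetCard]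
  have hAc : A.card = 2048 := by
    rw [Finset.card_union_of_disjoint, Finset.card_powersetCard, Finset.card_powersetCard]
    · simp only [Finset.card_univ, hα]; decide +kernel
    · rw [Finset.disjoint_left]
      intro T h1 h2
      rw [Finset.mem_powersetCard] at h1 h2
      omega
  let f : Finset α × Finset α → Finset α := fun x => (x.1 ∆ x.2).erase z
  have hodd : ∀ s t : Finset α, s.card % 2 = 1 → t.card % 2 = 1 → s.erase z = t.erase z →
      s = t := by
    intro s t hs ht h
    have hc := congrArg Finset.card h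
    by_cases h1 : z ∈ s <;> by_cases h2 : z ∈ t
    · rw [← Finset.insert_erase h1, h, Finset.insert_erase h2]
    · rw [Finset.card_erase_of_mem h1, Finset.erase_eq_of_notMem h2] at hc; omega
    · rw [Finset.card_erase_of_mem h2, Finset.erase_eq_of_notMem h1] at hc; omega
    · rwa [Finset.erase_eq_of_notMem h1, Finset.erase_eq_of_notMem h2] at h
  have hpar : ∀ T ∈ A, ∀ c ∈ D, (T ∆ c).card % 2 = 1 := by
    intro T hT c hc
    have h1 := card_symmDiff_add' T c
    have h2 := h4 c hc
    have h3 := (hA T).mp hT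
    omega
  have hsurj : Set.SurjOn f (A ×ˢ D : Finset _)
      (Finset.powerset (Finset.univ.erase z) : Finset _) := by
    apply Finset.surjOn_of_injOn_of_card_le
    · intro x _
      simp only [Finset.coe_powerset, Set.mem_preimage, Set.mem_powerset_iff, Finset.coe_subset, f]
      exact Finset.erase_subset_erase _ (Finset.subset_univ _)
    · rintro ⟨T, c⟩ h ⟨T', c'⟩ h' e
      simp only [Finset.coe_product, Set.mem_prod, Finset.mem_coe] at h h'
      have e1 := hodd _ _ (hpar T h.1 c h.2) (hpar T' h'.1 c' h'.2) e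
      have e2 : c ∆ c' = T ∆ T' := by
        have : c' = T' ∆ (T ∆ c) := by rw [e1, symmDiff_symmDiff_cancel_left]
        rw [this]
        ext x; simp only [Finset.mem_symmDiff]; tauto
      have e3 : c = c' := by
        apply huniq c h.2 c' h'.2
        have h1 := card_symmDiff_add' T T'
        have h2 := (hA T).mp h.1
        have h3 := (hA T').mp h'.1
        rw [e2]; omega
      subst e3
      rw [symmDiff_self, eq_comm, symmDiff_eq_bot] at e2
      rw [e2]
    · rw [Finset.card_product, hAc, hcard, Finset.card_powerset, Finset.card_erase_of_mem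
        (Finset.mem_univ _), Finset.card_univ, hα]
      norm_num
  obtain ⟨⟨T, c⟩, h, e⟩ := hsurj (show S.erase z ∈ _ by
    simp only [Finset.coe_powerset, Set.mem_preimage, Set.mem_powerset_iff, Finset.coe_subset]
    exact Finset.erase_subset_erase _ (Finset.subset_univ _))
  simp only [Finset.coe_product, Set.mem_prod, Finset.mem_coe] at h
  have e1 := hodd _ _ (hpar T h.1 c h.2) (by omega) e
  have e2 : c = T ∆ S := by rw [← e1, symmDiff_symmDiff_cancel_left]
  have h1 := card_symmDiff_add' T S
  have h2 := (hA T).mp h.1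
  have h3 := h4 c h.2
  have h5 := hno4 c h.2
  have h6 : (T ∩ S).card ≤ T.card := Finset.card_le_card Finset.inter_subset_left
  rw [← e2] at h1
  have h7 : (T ∩ S).card = 0 := by omega
  have h8 : S ⊆ c := by
    intro x hx
    rw [e2, Finset.mem_symmDiff]
    refine Or.inr ⟨hx, fun hT => ?_⟩
    rw [Finset.card_eq_zero] at h7
    exact Finset.notMem_empty x (h7 ▸ Finset.mem_inter.mpr ⟨hT, hx⟩)
  refine ⟨c, ⟨⟨h.2, by omega⟩, h8⟩, fun c' hc' => huniq _ hc'.1.1 _ h.2 ?_⟩
  have h9 := card_symmDiff_add' c' c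
  have h10 : S.card ≤ (c' ∩ c).card := Finset.card_le_card (Finset.subset_inter hc'.2 h8)
  have h11 := hc'.1.2
  omega

theorem steiner_of_code (C : Submodule (ZMod 2) (Fin 24 → ZMod 2))
    (hdim : Module.finrank (ZMod 2) C = 12) (h4 : ∀ w ∈ C, 4 ∣ hammingNorm w)
    (hno4 : ∀ w ∈ C, hammingNorm w ≠ 4) :
    IsSteinerSystem 5 8 (wordsOfWeight (C : Set (Fin 24 → ZMod 2)) 8) := by
  classical
  have hc : Nat.card C = 4096 := by
    rw [Module.natCard_eq_pow_finrank (K := ZMod 2), hdim, Nat.card_zmod]; norm_num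
  have := steiner_of_family (Fintype.card_fin 24) 0 (supports (C : Set (Fin 24 → ZMod 2))).toFinset ?_ ?_ ?_ ?_
  · simpa [wordsOfWeight] using this
  · rw [← Set.ncard_eq_toFinset_card', supports, Set.ncard_image_of_injective _
      (fun _ _ h => support₂_inj h), ← hc]
    rfl
  · simp only [Set.mem_toFinset]
    rintro _ ⟨v, hv, rfl⟩ _ ⟨w, hw, rfl⟩
    exact ⟨v + w, C.add_mem hv hw, support₂_add v w⟩
  · simp only [Set.mem_toFinset]
    rintro _ ⟨v, hv, rfl⟩
    rw [← hammingNorm_eq_card]; exact h4 v hv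
  · simp only [Set.mem_toFinset]
    rintro _ ⟨v, hv, rfl⟩
    rw [← hammingNorm_eq_card]; exact hno4 v hv

theorem code_equiv_of_iso (C : Submodule (ZMod 2) (Fin 24 → ZMod 2))
    (hdim : Module.finrank (ZMod 2) C = 12)
    (h : SetSystemIso (wordsOfWeight (C : Set (Fin 24 → ZMod 2)) 8) octads) :
    ∃ e : Fin 24 ≃ GolayPt, ∀ w : GolayPt → ZMod 2, w ∈ golayCode ↔ (fun i => w (e i)) ∈ C := by
  obtain ⟨e, he⟩ := h
  refine ⟨e, ?_⟩
  let L : (GolayPt → ZMod 2) ≃ₗ[ZMod 2] (Fin 24 → ZMod 2) := LinearEquiv.funCongrLeft _ _ e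
  have hle : golayCode ≤ C.comap L.toLinearMap := by
    intro w hw
    obtain ⟨n, -, rfl⟩ := exists_cw_of_mem hw
    refine cw_induction (P := fun m => wd m ∈ C.comap L.toLinearMap)
      (wd_zero ▸ Submodule.zero_mem _) (fun a b ha hb => wd_xor a b ▸ Submodule.add_mem _ ha hb)
      (fun i hi => ?_) n
    have := basis_mem_octads i hi
    rw [← he] at this
    obtain ⟨_, ⟨⟨v, hv, rfl⟩, -⟩, e1⟩ := this
    have : L (wd (app 24 basisP i)) = v := by
      apply support₂_inj
      ext x
      have h1 : x ∈ support₂ (L (wd (app 24 basisP i))) ↔ e x ∈ support₂ (wd (app 24 basisP i)) := by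
        simp only [support₂, Finset.mem_filter, Finset.mem_univ, true_and]; rfl
      rw [h1, support_wd, ← e1]
      simp
    show L _ ∈ C
    rw [this]; exact hv
  have heq : golayCode = C.comap L.toLinearMap := by
    apply Submodule.eq_of_le_of_finrank_eq hle
    rw [finrank_golayCode, ← hdim, Submodule.comap_equiv_eq_map_symm, LinearEquiv.finrank_map_eq]
  intro w
  rw [heq]; rfl

end Cfsg.Lib.Golay
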